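import Groth.Agent.SBK0Lib.XStep
import Groth.Agent.K0ResLib.Basic
import Groth.Agent.S14215
import Groth.Agent.ProjTwist.Zero

/-!
# Classes of locally free modules on a Severi–Brauer scheme
-/

set_option autoImplicit false
set_option backward.isDefEq.respectTransparency false
set_option linter.style.haveILetI false
set_option maxHeartbeats 400000
set_option linter.unusedSectionVars false

universe u

open CategoryTheory CategoryTheory.Limits AlgebraicGeometry
open Groth.Agent.HorrocksPnLib Groth.Agent.K0ResLib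

noncomputable section

namespace Groth.Agent.SBK0Lib

section K0

variable {X : Scheme.{u}}

local notation "cl" => KZero.clSub (fun M : X.Modules => FlatMod.IsFinLocFree M)

theorem cl_isZero {Z : X.Modules} (hZ : IsZero Z) : cl Z = 0 := by
  have h := DCohLib.isFinLocFree_of_isZero hZ
  have sp : (ShortComplex.mk (0 : Z ⟶ Z) (0 : Z ⟶ Z) (by simp)).Splitting :=
    { r := 0, s := 0, f_r := hZ.eq_of_src _ _, s_g := hZ.eq_of_src _ _, id := hZ.eq_of_src _ _ }
  exact left_eq_add.1 (clSub_add (P := fun M : X.Modules => FlatMod.IsFinLocFree M) sp.shortExact h h h)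

theorem cl_iso {A B : X.Modules} (i : A ≅ B) (hA : FlatMod.IsFinLocFree A) : cl B = cl A := by
  have hz : IsZero (cokernel (𝟙 A)) := isZero_cokernel_of_epi _
  have sp : (ShortComplex.mk i.hom (0 : B ⟶ cokernel (𝟙 A)) (by simp)).Splitting :=
    { r := i.inv, s := 0, f_r := i.hom_inv_id, s_g := hz.eq_of_src _ _, id := by simp }
  have h := clSub_add (P := fun M : X.Modules => FlatMod.IsFinLocFree M) sp.shortExact hA
    (DCohLib.isFinLocFree_iso i hA) (DCohLib.isFinLocFree_of_isZero hz)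
  rwa [cl_isZero hz, add_zero] at h

theorem cl_sigma_mem (H : AddSubgroup (KZero.K0sub (fun M : X.Modules => FlatMod.IsFinLocFree M))) {b : ℕ}
    (f : Fin b → X.Modules) (h : ∀ j, FlatMod.IsFinLocFree (f j) ∧ cl (f j) ∈ H) : cl (∐ f) ∈ H := by
  haveI : HasFiniteBiproducts X.Modules := HasFiniteBiproducts.of_hasFiniteProducts
  refine (CMRegLib.sigma_induction (fun M => FlatMod.IsFinLocFree M ∧ cl M ∈ H) (fun Z hZ => ?_)
    (fun A B hA hB => ?_) (fun i hi => ?_) f h).2
  · exact ⟨DCohLib.isFinLocFree_of_isZero hZ, by rw [cl_isZero hZ]; exact zero_mem H⟩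
  · refine ⟨DCohLib.isFinLocFree_biprod hA.1 hB.1, ?_⟩
    have e := clSub_add (P := fun M : X.Modules => FlatMod.IsFinLocFree M)
      (S := ShortComplex.mk (biprod.inl : A ⟶ A ⊞ B) biprod.snd biprod.inl_snd)
      (ShortComplex.Splitting.ofHasBinaryBiproduct A B).shortExact hA.1 (DCohLib.isFinLocFree_biprod hA.1 hB.1) hB.1
    exact e ▸ add_mem hA.2 hB.2
  · exact ⟨DCohLib.isFinLocFree_iso i hi.1, cl_iso i hi.1 ▸ hi.2⟩

theorem eq_top_of_forall_mem (H : AddSubgroup (KZero.K0sub (fun M : X.Modules => FlatMod.IsFinLocFree M)))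
    (h : ∀ M : X.Modules, FlatMod.IsFinLocFree M → cl M ∈ H) : H = ⊤ := by
  refine (AddSubgroup.eq_top_iff' H).2 fun c => ?_
  obtain ⟨x, rfl⟩ := QuotientAddGroup.mk_surjective c
  induction x using FreeAbelianGroup.induction_on with
  | zero => exact zero_mem H
  | of M => exact clSub_of (P := fun M : X.Modules => FlatMod.IsFinLocFree M) M.2 ▸ h M.1 M.2
  | neg M hM => exact neg_mem hM
  | add a b ha hb => exact add_mem ha hb

end K0

variable {k : Type u} [Field k] (A : Type u) [Ring A] [Algebra k A] [Algebra.IsCentral k A] [IsSimpleRing A]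
  {n : ℕ} (hn : 0 < n) (hA : Module.finrank k A = n * n) {X : Scheme.{u}} {f : X ⟶ Spec (CommRingCat.of k)}
  [IsProper f] (hX : BrSev.IsSBOf k A (n * n - n) f) {K : Type u} [Field K] [Algebra k K] [IsAlgClosure k K]
  (e : BrSev.Splitting f K (n - 1))

local notation "cl" => KZero.clSub (fun M : X.Modules => FlatMod.IsFinLocFree M)

/-- The proposed generators. -/
abbrev gens : Set (KZero.K0sub (fun M : X.Modules => FlatMod.IsFinLocFree M)) :=
  {c | ∃ (W : X.Modules) (j : ℕ) (r : ℕ), FlatMod.IsFinLocFree W ∧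
    (¬ IsZero W ∧ ∀ M₁ M₂ : X.Modules, Nonempty (W ≅ M₁ ⊞ M₂) → IsZero M₁ ∨ IsZero M₂) ∧
    0 < r ∧ BrSev.IsTwPow e (-(j : ℤ)) r W ∧ c = KZero.clSub (fun M : X.Modules => FlatMod.IsFinLocFree M) W}

theorem retract_HT {N : ℕ} {A B : (CohB1.ProjSpace N K).Modules} (i : A ⟶ B) (p : B ⟶ A) (h : i ≫ p = 𝟙 A)
    {d : ℤ} {q : ℕ} (hB : CMRegLib.HT B d q) : CMRegLib.HT A d q := by
  refine subsingleton_HH_retract K ((CurveLib.tensR (Twist.twistProjSpace N K d)).map i)
    ((CurveLib.tensR (Twist.twistProjSpace N K d)).map p) ?_ hB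
  rw [← Functor.map_comp, h, CategoryTheory.Functor.map_id]

theorem not_HT_O_zero {N : ℕ} {j : ℤ} (hj : 0 ≤ j) : ¬ CMRegLib.HT (Twist.twistProjSpace N K j) 0 0 := fun h => by
  obtain ⟨d, rfl⟩ := Int.eq_ofNat_of_zero_le hj
  haveI : Subsingleton (Coh.HH (CohB1.ProjSpace N K) (Twist.twistProjSpace N K (d : ℤ)) 0) :=
    @ProjCoh.subsingleton_of_iso _ _ _ (CMRegLib.zeroTwistIso (Twist.twistProjSpace N K (d : ℤ))) 0 h
  obtain ⟨g⟩ := ProjTwist.nonempty_H0 N K d
  haveI := g.symm.toEquiv.subsingleton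
  have h1 : (⟨MvPolynomial.X 0 ^ d, by simpa using (MvPolynomial.isHomogeneous_X_pow (R := K) (0 : Fin (N + 1)) d)⟩ :
      ↥(CohB1.polyGrading N K d)) = 0 := Subsingleton.elim _ _
  exact pow_ne_zero d (MvPolynomial.X_ne_zero 0) (congrArg Subtype.val h1)

theorem le_zero_of_retract {E M : X.Modules} {j : ℤ} {r : ℕ} (hMt : BrSev.IsTwPow e j r M) (hr : 0 < r)
    (u : M ⟶ E) (v : E ⟶ M) (huv : u ≫ v = 𝟙 M) (h0 : CMRegLib.HT ((G e).obj E) 0 0) : j ≤ 0 := by
  by_contra hj
  obtain ⟨φ⟩ := nonempty_gPull_type e hMt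
  have hr' : ∃ (i : Twist.twistProjSpace (n - 1) K j ⟶ (G e).obj M)
      (p : (G e).obj M ⟶ Twist.twistProjSpace (n - 1) K j), i ≫ p = 𝟙 _ := by
    refine ⟨Sigma.ι (fun _ : Fin r => Twist.twistProjSpace (n - 1) K j) ⟨0, hr⟩ ≫ φ.inv,
      φ.hom ≫ ASBunKS.prj _ ⟨0, hr⟩, ?_⟩
    simp [ASBunKS.prj]
  obtain ⟨i, p, hip⟩ := hr'
  refine not_HT_O_zero (K := K) (N := n - 1) (j := j) (by omega) ?_
  have hcomp : (i ≫ (G e).map u) ≫ (G e).map v ≫ p = 𝟙 _ := by
    have huv' : (G e).map u ≫ (G e).map v = 𝟙 _ := by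
      rw [← Functor.map_comp, huv, CategoryTheory.Functor.map_id]
    rw [Category.assoc, reassoc_of% huv', hip]
  exact retract_HT (i ≫ (G e).map u) ((G e).map v ≫ p) hcomp h0

include hn hA hX

theorem mem_of_split {E : X.Modules} (hE : FlatMod.IsFinLocFree E)
    (hmid : ∀ (i : ℕ) (d : ℤ), 0 < i → i < n - 1 → CMRegLib.HT ((G e).obj E) d i)
    (h0 : 0 < n - 1 → CMRegLib.HT ((G e).obj E) 0 0) : cl E ∈ AddSubgroup.closure (gens e) := by
  classical
  obtain ⟨s, Ls, hLs, hsplit⟩ := HorrocksPnLib.absSplit_of_HT e hE hmid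
  obtain ⟨t, Ms, js, rs, hMs, ⟨ε⟩⟩ := S14215.result k A n hn hA f hX K e E hE s Ls hLs hsplit
  have hmem : cl (∐ Ms) ∈ AddSubgroup.closure (gens e) := cl_sigma_mem _ _ fun a => ⟨(hMs a).1, by
    obtain ⟨hMflf, hMi, hr, hMt⟩ := hMs a
    refine AddSubgroup.subset_closure ?_
    rcases Nat.eq_zero_or_pos (n - 1) with hn1 | hn1
    · obtain rfl : n = 1 := by omega
      obtain ⟨α⟩ := ASBunKS.nonempty_twist_zero_dim e e (js a) (-((0 : ℕ) : ℤ))
      obtain ⟨φ⟩ := hMt
      exact ⟨Ms a, 0, rs a, hMflf, hMi, hr, ⟨φ ≪≫ ASBunKS.powIso α (rs a)⟩, rfl⟩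
    · have hjs : js a ≤ 0 := le_zero_of_retract e hMt hr (Sigma.ι Ms a ≫ ε.inv)
        (ε.hom ≫ Sigma.desc fun i => if h : i = a then eqToHom (congrArg Ms h) else 0) (by simp) (h0 hn1)
      refine ⟨Ms a, (-js a).toNat, rs a, hMflf, hMi, hr, ?_, rfl⟩
      rwa [show -((-js a).toNat : ℤ) = js a by omega]⟩
  rwa [cl_iso ε.symm (DCohLib.isFinLocFree_sigma t Ms fun a => (hMs a).1)]

/-- The induction along a minimal resolution. -/
theorem mem_of_regular : ∀ (c s : ℕ), s + c = n - 1 → ∀ (E : X.Modules) (m : ℕ), 0 < m → FlatMod.IsFinLocFree E →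
    Curv2.IsMRegular K (n - 1) ((G e).obj E) (m : ℤ) →
    (0 < s → ∀ d : ℤ, d < m → CMRegLib.HT ((G e).obj E) d 0) →
    (∀ (i : ℕ) (d : ℤ), 0 < i → i < n - 1 → i + 1 ≤ s → CMRegLib.HT ((G e).obj E) d i) →
    cl E ∈ AddSubgroup.closure (gens e) := by
  intro c
  induction c with
  | zero =>
    intro s hs E m hm hE _ h0 hmid
    exact mem_of_split A hn hA hX e hE (fun i d hi hin => hmid i d hi hin (by omega))
      fun hN => h0 (by omega) 0 (by omega)
  | succ c ih =>
    intro s hs E m hm hE hreg h0 hmid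
    haveI := CMRegLib.isNoetherian_projSpace (k := K) (n := n - 1)
    obtain ⟨T⟩ := nonempty_step e hE m
    haveI := T.epi hE hreg
    have hS : (kerSC T.φ).ShortExact := kerSC_shortExact T.φ
    have hK : FlatMod.IsFinLocFree (kernel T.φ) := DCohLib.isFinLocFree_of_shortExact hS T.flfP hE
    have hS' := shortExact_G e hS hE
    have hlin : LinAt ((kerSC T.φ).map (G e)).X₂ (m : ℤ) := T.linAt (by omega)
    have hno : ∀ t : Twist.twistProjSpace (n - 1) K (-(m : ℤ)) ⟶ ((kerSC T.φ).map (G e)).X₁, t = 0 :=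
      fun t => T.no_maps hE t
    have hregK := regular_kernel hS' hlin (isCoh_G e T.flfP) (isCoh_G e hE) hreg (fun t => T.lift hE t)
    have hmem : cl (kernel T.φ) ∈ AddSubgroup.closure (gens e) := by
      refine ih (s + 1) (by omega) (kernel T.φ) (m + 1) (Nat.succ_pos m) hK (by exact_mod_cast hregK) (fun _ d hd => ?_)
        fun i d hi hin his => ?_
      · exact HT_zero_kernel hS' hlin hno (by push_cast at hd; omega)
      · exact middle_kernel hS' hlin (isCoh_G e hK) hregK h0 hmid hi hin his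
    have hPmem : cl (∐ fun _ : Fin T.b => T.W) ∈ AddSubgroup.closure (gens e) :=
      cl_sigma_mem _ _ fun _ => ⟨T.flfW, AddSubgroup.subset_closure ⟨T.W, m, T.r, T.flfW, T.indec, T.pos, T.typ, rfl⟩⟩
    have heq := clSub_add (P := fun M : X.Modules => FlatMod.IsFinLocFree M) hS hK T.flfP hE
    change cl (∐ fun _ : Fin T.b => T.W) = cl (kernel T.φ) + cl E at heq
    rw [show cl E = cl (∐ fun _ : Fin T.b => T.W) - cl (kernel T.φ) by rw [heq]; abel]
    exact sub_mem hPmem hmem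

theorem closure_eq_top : AddSubgroup.closure (gens e) = ⊤ := by
  refine eq_top_of_forall_mem _ fun E hE => ?_
  obtain ⟨m, hm⟩ := HorrocksPnLib.exists_regular (isCoh_G e hE)
  refine mem_of_regular A hn hA hX e (n - 1) 0 (by omega) E (max m 1).toNat (by omega) hE
    (CMRegLib.regular_mono (isCoh_G e hE) (by omega) hm) (fun h => absurd h (lt_irrefl 0)) fun i d hi hin his => ?_
  omega

end Groth.Agent.SBK0Lib
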