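import Groth.Agent.ASBunKS.HomBC
import Groth.Agent.ASBunKS.SBType
import Groth.Agent.DCohMore.DescFPPF
import Groth.Agent.GeomRedDesc.Basic
import Groth.Agent.AVLib.AmpleCrit

/-!
# Minimal maps from an isotypical module
-/

set_option autoImplicit false
set_option backward.isDefEq.respectTransparency false
set_option linter.style.haveILetI false
set_option maxHeartbeats 400000
set_option linter.unusedSectionVars false

universe u

open CategoryTheory CategoryTheory.Limits AlgebraicGeometry
open Groth.Agent.ASBunKS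
open W4c1astiltbs12

noncomputable section

namespace Groth.Agent.SBK0Lib

variable {k : Type u} [Field k] {X : Scheme.{u}} (p : X ⟶ Spec (CommRingCat.of k)) [IsProper p]
  (K : Type u) [Field K] [Algebra k K]

theorem flat_proj : Flat (proj p K) := by
  haveI : Flat (Spec.map (CommRingCat.ofHom (algebraMap k K))) :=
    (HasRingHomProperty.Spec_iff (P := @Flat)).2 (RingHom.flat_algebraMap_iff.2 inferInstance)
  infer_instance

theorem finite_homMod {M N : X.Modules} (hM : Coh.IsCoh M) (hN : Coh.IsCoh N) :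
    letI := homMod p M N
    Module.Finite k (M ⟶ N) := by
  letI : X.Over (Spec (CommRingCat.of k)) := ⟨p⟩
  haveI : IsProper (X ↘ Spec (CommRingCat.of k)) := inferInstanceAs (IsProper p)
  exact finite_hom k hM hN

theorem finite_homMod_bc {M N : X.Modules} (hM : Coh.IsCoh M) (hN : Coh.IsCoh N) :
    letI := homMod (snd p K) (bcMod p K M) (bcMod p K N)
    Module.Finite K (bcMod p K M ⟶ bcMod p K N) := by
  haveI : IsLocallyNoetherian X := LocallyOfFiniteType.isLocallyNoetherian p
  haveI : IsProper (snd p K) := isProper_snd p K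
  haveI : IsLocallyNoetherian (W4bk4gw11416.baseChange p K) := LocallyOfFiniteType.isLocallyNoetherian (snd p K)
  exact finite_homMod (snd p K) (PullbackMod.isCoh_pullback _ M hM) (PullbackMod.isCoh_pullback _ N hN)

/-- No maps before base change, no maps after. -/
theorem bcHom_eq_zero {W M : X.Modules} (hW : Coh.IsCoh W) (hM : Coh.IsCoh M) (h : ∀ u : W ⟶ M, u = 0)
    (v : bcMod p K W ⟶ bcMod p K M) : v = 0 := by
  letI := homMod p W M
  letI := homMod (snd p K) (bcMod p K W) (bcMod p K M)
  haveI : Subsingleton (W ⟶ M) := ⟨fun a b => (h a).trans (h b).symm⟩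
  haveI := finite_homMod_bc p K hW hM
  have h0 : Module.finrank K (bcMod p K W ⟶ bcMod p K M) = 0 := by
    rw [← finrank_hom_bc p K hW hM, Module.finrank_zero_of_subsingleton]
  haveI := Module.finrank_zero_iff.1 h0
  exact Subsingleton.elim _ _

/-- A composition that is bijective stays surjective after base change. -/
theorem exists_bc_factor {W P E : X.Modules} (hW : Coh.IsCoh W) (hP : Coh.IsCoh P) (hE : Coh.IsCoh E) (φ : P ⟶ E)
    (hb : Function.Bijective fun v : W ⟶ P => v ≫ φ) (u : bcMod p K W ⟶ bcMod p K E) :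
    ∃ v, v ≫ (Scheme.Modules.pullback (proj p K)).map φ = u := by
  haveI : IsLocallyNoetherian X := LocallyOfFiniteType.isLocallyNoetherian p
  haveI := flat_proj p K
  haveI := DCohMore.preservesFiniteLimits_pullback_of_flat (proj p K)
  haveI : (Scheme.Modules.pullback (proj p K)).Additive := Functor.additive_of_preserves_binary_products _
  let Φ := (Scheme.Modules.pullback (proj p K)).map φ
  letI := homMod p W P
  letI := homMod p W E
  letI := homMod (snd p K) (bcMod p K W) (bcMod p K P)
  letI := homMod (snd p K) (bcMod p K W) (bcMod p K E)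
  let c : (W ⟶ P) →ₗ[k] (W ⟶ E) :=
    { toFun := fun v => v ≫ φ
      map_add' := fun a b => Preadditive.add_comp _ _ _ a b φ
      map_smul' := fun r v => by
        show (v ≫ (cE p P r : P ⟶ P)) ≫ φ = (v ≫ φ) ≫ (cE p E r : E ⟶ E)
        rw [Category.assoc, cE_natural, Category.assoc] }
  let C : (bcMod p K W ⟶ bcMod p K P) →ₗ[K] (bcMod p K W ⟶ bcMod p K E) :=
    { toFun := fun v => v ≫ Φ
      map_add' := fun a b => Preadditive.add_comp _ _ _ a b Φ
      map_smul' := fun r v => by
        show (v ≫ (cE (snd p K) (bcMod p K P) r : _ ⟶ _)) ≫ Φ = (v ≫ Φ) ≫ (cE (snd p K) (bcMod p K E) r : _ ⟶ _)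
        rw [Category.assoc, cE_natural, Category.assoc] }
  have hker : ∀ w : W ⟶ kernel φ, w = 0 := fun w => by
    rw [← cancel_mono (kernel.ι φ), zero_comp]
    exact hb.1 (by simp)
  have hinj : Function.Injective C := by
    refine (injective_iff_map_eq_zero C).2 fun v hv => ?_
    obtain ⟨v', hv'⟩ := KernelFork.IsLimit.lift'
      (isLimitOfHasKernelOfPreservesLimit (Scheme.Modules.pullback (proj p K)) φ) v hv
    rw [← hv', bcHom_eq_zero p K hW (QCohLib.isCoh_kernel_cokernel φ hP hE).1 hker v']
    exact zero_comp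
  haveI := finite_homMod_bc p K hW hP
  haveI := finite_homMod_bc p K hW hE
  exact (LinearMap.injective_iff_surjective_of_finrank_eq_finrank (by
    rw [← finrank_hom_bc p K hW hP, ← finrank_hom_bc p K hW hE,
      (LinearEquiv.ofBijective c hb).finrank_eq])).1 hinj u

include p in
/-- Hom out of an indecomposable with division endomorphisms has a free basis. -/
theorem exists_minimal {W E : X.Modules} (hW : Coh.IsCoh W) (hE : Coh.IsCoh E)
    (hdiv : ∀ a : W ⟶ W, a ≠ 0 → IsIso a) :
    ∃ (b : ℕ) (φ : (∐ fun _ : Fin b => W) ⟶ E), Function.Bijective fun v : W ⟶ ∐ fun _ : Fin b => W => v ≫ φ := by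
  classical
  let Gen : ℕ → Prop := fun b => ∃ f : Fin b → (W ⟶ E), ∀ g, ∃ a : Fin b → (W ⟶ W), g = ∑ i, a i ≫ f i
  have hex : ∃ b, Gen b := by
    letI := homMod p W E
    haveI := finite_homMod p hW hE
    obtain ⟨b, v, hv⟩ := Module.Finite.exists_fin (R := k) (M := W ⟶ E)
    refine ⟨b, v, fun g => ?_⟩
    obtain ⟨c, hc⟩ := (Submodule.mem_span_range_iff_exists_fun k).1
      (show g ∈ Submodule.span k (Set.range v) by rw [hv]; trivial)
    refine ⟨fun i => (cE p W (c i) : W ⟶ W), hc.symm.trans (Finset.sum_congr rfl fun i _ => ?_)⟩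
    exact (cE_natural p (v i) (c i)).symm
  obtain ⟨f, hf⟩ := Nat.find_spec hex
  generalize hb : Nat.find hex = b at f hf
  refine ⟨b, Sigma.desc f, ?_⟩
  let π : Fin b → ((∐ fun _ : Fin b => W) ⟶ W) := fun j => Sigma.desc fun i => if i = j then 𝟙 _ else 0
  have htot : ∑ j, π j ≫ Sigma.ι (fun _ : Fin b => W) j = 𝟙 _ := by
    refine Sigma.hom_ext _ _ fun i => ?_
    simp [π, Preadditive.comp_sum, ite_comp, Finset.sum_ite_eq]
  have hexp : ∀ v : W ⟶ ∐ fun _ : Fin b => W, v ≫ Sigma.desc f = ∑ j, (v ≫ π j) ≫ f j := fun v => by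
    conv_lhs => rw [← Category.comp_id v, ← htot, Preadditive.comp_sum, Preadditive.sum_comp]
    simp
  refine ⟨fun v w hvw => sub_eq_zero.1 ?_, fun g => ?_⟩
  · by_contra hne
    obtain ⟨j, hj⟩ : ∃ j, (v - w) ≫ π j ≠ 0 := by
      by_contra hall
      push Not at hall
      refine hne ?_
      rw [← Category.comp_id (v - w), ← htot, Preadditive.comp_sum]
      exact Finset.sum_eq_zero fun j _ => by rw [← Category.assoc, hall j, zero_comp]
    have h0 : ∑ i, ((v - w) ≫ π i) ≫ f i = 0 := by
      rw [← hexp, Preadditive.sub_comp]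
      exact sub_eq_zero.2 hvw
    obtain ⟨b', rfl⟩ : ∃ b', b = b' + 1 := ⟨b - 1, by have := j.2; omega⟩
    haveI := hdiv _ hj
    rw [Fin.sum_univ_succAbove _ j] at h0
    refine Nat.find_min hex (hb ▸ Nat.lt_succ_self b') ⟨fun i => f (j.succAbove i), fun g => ?_⟩
    obtain ⟨a, ha⟩ := hf g
    refine ⟨fun i => a (j.succAbove i) - a j ≫ inv ((v - w) ≫ π j) ≫ ((v - w) ≫ π (j.succAbove i)), ?_⟩
    have hfj : f j = - ∑ i, (inv ((v - w) ≫ π j) ≫ ((v - w) ≫ π (j.succAbove i))) ≫ f (j.succAbove i) := by
      rw [eq_neg_iff_add_eq_zero]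
      have h1 := congrArg (fun t => inv ((v - w) ≫ π j) ≫ t) h0
      simp only [Preadditive.comp_add, Preadditive.comp_sum, comp_zero] at h1
      rw [IsIso.inv_hom_id_assoc] at h1
      simp only [Category.assoc] at h1 ⊢
      exact h1
    rw [ha, Fin.sum_univ_succAbove _ j, hfj, Preadditive.comp_neg, Preadditive.comp_sum]
    simp only [Preadditive.sub_comp, Finset.sum_sub_distrib, Category.assoc]
    abel
  · obtain ⟨a, rfl⟩ := hf g
    refine ⟨∑ i, a i ≫ Sigma.ι (fun _ : Fin b => W) i, ?_⟩
    show (∑ i, a i ≫ Sigma.ι (fun _ : Fin b => W) i) ≫ Sigma.desc f = _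
    simp [Preadditive.sum_comp]

/-- A scheme split over an algebraically closed field is geometrically integral. -/
theorem geometricallyIntegral_of_splitting [IsAlgClosed K] {m : ℕ} (e : BrSev.Splitting p K m) :
    GeometricallyIntegral p := by
  haveI : Surjective (Spec.map (CommRingCat.ofHom (algebraMap k K))) := by
    haveI : Nonempty (Spec (CommRingCat.of K) : Scheme.{u}) := inferInstanceAs (Nonempty (PrimeSpectrum K))
    exact ⟨fun y => ⟨Classical.arbitrary _, Subsingleton.elim _ y⟩⟩
  haveI : IsIntegral (BrSev.bc p K) := isIntegral_bcK p e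
  haveI := AVLib.geometricallyIntegral_of_isIntegral (BrSev.bcTo p K)
  exact GeomRedDesc.geometricallyIntegral_of_surjective p (Spec.map (CommRingCat.ofHom (algebraMap k K)))

end Groth.Agent.SBK0Lib
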