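import Groth.Agent.HorrocksPnLib.Ext1
import Groth.Agent.CMRegLib.Res
import Groth.Agent.CMRegLib.Drop
import Groth.Agent.ProjTwist.Vanish
import Groth.Agent.ProjTwist.Zero

/-!
# One step of a minimal linear resolution on projective space
-/

set_option autoImplicit false
set_option backward.isDefEq.respectTransparency false
set_option linter.style.haveILetI false
set_option maxHeartbeats 400000

universe u

open CategoryTheory CategoryTheory.Limits AlgebraicGeometry TopologicalSpace Opposite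
open Groth.Agent.PullbackMod Groth.Agent.DCohLib

noncomputable section

namespace Groth.Agent.SBK0Lib

variable {k : Type u} [Field k] {n : ℕ}

local notation "PS" => CohB1.ProjSpace n k
local notation "O(" d ")" => Twist.twistProjSpace n k d

/-- Sections of a twist are maps from the opposite twist. -/
theorem exists_map_of_section {F : (PS).Modules} (m : ℤ)
    (s : Coh.structureModule PS ⟶ CohB1.tensorMod F (O(m))) :
    ∃ (u : Coh.structureModule PS ⟶ (CurveLib.tensR (O(m))).obj (O(-m))) (t : O(-m) ⟶ F),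
      u ≫ (CurveLib.tensR (O(m))).map t = s := by
  obtain ⟨e⟩ := HorrocksPnLib.nonempty_cancel_twist (k := k) (n := n) (neg_add_cancel m)
  obtain ⟨η⟩ := HorrocksPnLib.nonempty_cancel_twist (k := k) (n := n) (add_neg_cancel m)
  haveI := VBLib.isEquivalence_tensR η
  let u : Coh.structureModule PS ⟶ (CurveLib.tensR (O(m))).obj (O(-m)) := e.inv
  let w : (CurveLib.tensR (O(m))).obj (O(-m)) ⟶ (CurveLib.tensR (O(m))).obj F := e.hom ≫ s
  refine ⟨u, (CurveLib.tensR (O(m))).preimage w, ?_⟩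
  rw [Functor.map_preimage]
  exact e.inv_hom_id_assoc s

theorem HT_zero_of_no_maps {F : (PS).Modules} (m : ℤ) (h : ∀ t : O(-m) ⟶ F, t = 0) :
    CMRegLib.HT F m 0 := by
  refine subsingleton_of_forall_eq 0 fun c => ?_
  obtain ⟨u, t, ht⟩ := exists_map_of_section m (DCohLib.secHom _ (CurveLib.secOf _ c))
  rw [h t, Functor.map_zero, comp_zero] at ht
  refine (CurveLib.secOf _).injective ?_
  rw [map_zero, ← AmpleLib.sec_secHom (CurveLib.secOf _ c), ← ht]
  rfl

theorem surjective_sections_of_lift {P F : (PS).Modules} (φ : P ⟶ F) (m : ℤ)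
    (h : ∀ t : O(-m) ⟶ F, ∃ t' : O(-m) ⟶ P, t' ≫ φ = t) :
    Function.Surjective (((CurveLib.tensR (O(m))).map φ).app ⊤) := by
  intro σ
  obtain ⟨u, t, ht⟩ := exists_map_of_section m (DCohLib.secHom (CohB1.tensorMod F (O(m))) σ)
  obtain ⟨t', rfl⟩ := h t
  rw [Functor.map_comp, ← Category.assoc] at ht
  refine ⟨AmpleLib.sec (u ≫ (CurveLib.tensR (O(m))).map t'), ?_⟩
  refine Eq.trans ?_ ((congrArg AmpleLib.sec ht).trans (AmpleLib.sec_secHom σ))
  rfl

/-- The cohomology of the source of a step. -/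
def LinAt (P : (PS).Modules) (m : ℤ) : Prop :=
  (∀ (i : ℕ) (d : ℤ), 1 ≤ i → (i < n ∨ -((n : ℤ) + 1) + m < d) → CMRegLib.HT P d i) ∧
    ∀ d : ℤ, d < m → CMRegLib.HT P d 0

theorem linAt_twist (hn : 0 < n) (m : ℤ) : LinAt (O(-m)) m := by
  refine ⟨fun i d hi h => CMRegLib.HT_twist _ _ hi ?_, fun d hd => ?_⟩
  · rcases h with h | h
    · exact Or.inr h.ne
    · exact Or.inl (by omega)
  · exact @ProjCoh.subsingleton_of_iso _ _ _
      (ProjTwistLib.mulIso (𝒜 := CohB1.polyGrading n k) (rfl : -m + d = -m + d) (CMRegLib.hasUnit _)).symm 0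
      (ProjTwist.subsingleton_HH n k (-m + d) 0 (by omega) (by omega))

theorem linAt_sigma {b : ℕ} (f : Fin b → (PS).Modules) {m : ℤ} (h : ∀ j, LinAt (f j) m) : LinAt (∐ f) m :=
  ⟨fun i d hi hd => CMRegLib.HT.sigma f fun j => (h j).1 i d hi hd,
    fun d hd => CMRegLib.HT.sigma f fun j => (h j).2 d hd⟩

theorem linAt_iso {P Q : (PS).Modules} (e : P ≅ Q) {m : ℤ} (h : LinAt P m) : LinAt Q m :=
  ⟨fun i d hi hd => (h.1 i d hi hd).iso e, fun d hd => (h.2 d hd).iso e⟩

theorem regular_kernel {S : ShortComplex (PS).Modules} (hS : S.ShortExact) {m : ℤ} (hP : LinAt (k := k) (n := n) S.X₂ m) (h₂ : Coh.IsCoh S.X₂) (h₃ : Coh.IsCoh S.X₃) (hF : Curv2.IsMRegular k n S.X₃ m)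
    (hlift : ∀ t : O(-m) ⟶ S.X₃, ∃ t' : O(-m) ⟶ S.X₂, t' ≫ S.g = t) :
    Curv2.IsMRegular k n S.X₁ (m + 1) := by
  intro i hi hin
  obtain ⟨q, rfl⟩ : ∃ q, i = q + 1 := ⟨i - 1, by omega⟩
  have hvan : CMRegLib.HT S.X₂ (m + 1 - ((q + 1 : ℕ) : ℤ)) (q + 1) :=
    hP.1 _ _ hi (Or.inr (by push_cast; omega))
  rcases q with _ | q
  · have hd : m + 1 - ((0 + 1 : ℕ) : ℤ) = m := by simp
    rw [hd] at hvan ⊢
    refine CohBase.subsingleton_HH _ _ ?_
    haveI : Subsingleton (CohBase.HU (⊤ : (PS).Opens)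
        ((CMRegLib.twSeq S m).map (QCohLib.toAbF PS)).X₂ 1) := SerreAff.subsingleton_HU_top hvan
    exact CohBase.subsingleton_one_of_surjective (QCohLib.toAb_shortExact (CMRegLib.shortExact_twSeq hS m)) ⊤
      (surjective_sections_of_lift S.g m hlift)
  · exact CMRegLib.HT.left hS hvan (CMRegLib.vanish_ge h₃ hF (Nat.succ_pos q) (by push_cast; omega))

theorem HT_zero_left {S : ShortComplex (PS).Modules} (hS : S.ShortExact) {d : ℤ} (h : CMRegLib.HT S.X₂ d 0) :
    CMRegLib.HT S.X₁ d 0 := by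
  have hinj := CurveLib.hMap_f_zero_injective (k := k) (CMRegLib.shortExact_twSeq hS d)
  refine ⟨fun a b => hinj ?_⟩
  exact @Subsingleton.elim _ h _ _

theorem HT_zero_kernel {S : ShortComplex (PS).Modules} (hS : S.ShortExact) {m : ℤ} (hP : LinAt (k := k) (n := n) S.X₂ m) (hno : ∀ t : O(-m) ⟶ S.X₁, t = 0) {d : ℤ} (hd : d ≤ m) : CMRegLib.HT S.X₁ d 0 := by
  rcases lt_or_eq_of_le hd with h | rfl
  · exact HT_zero_left hS (hP.2 d h)
  · exact HT_zero_of_no_maps d hno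

theorem middle_kernel {S : ShortComplex (PS).Modules} (hS : S.ShortExact) {m : ℤ} (hP : LinAt (k := k) (n := n) S.X₂ m) (h₁ : Coh.IsCoh S.X₁) (hK : Curv2.IsMRegular k n S.X₁ (m + 1))
    {s : ℕ} (h0 : 0 < s → ∀ d : ℤ, d < m → CMRegLib.HT S.X₃ d 0)
    (hmid : ∀ (i : ℕ) (d : ℤ), 0 < i → i < n → i + 1 ≤ s → CMRegLib.HT S.X₃ d i)
    {i : ℕ} {d : ℤ} (hi : 0 < i) (hin : i < n) (his : i + 1 ≤ s + 1) : CMRegLib.HT S.X₁ d i := by
  haveI := CMRegLib.isNoetherian_projSpace (k := k) (n := n)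
  obtain ⟨q, rfl⟩ : ∃ q, i = q + 1 := ⟨i - 1, by omega⟩
  have h1 : CMRegLib.HT S.X₂ d (q + 1) := hP.1 _ _ hi (Or.inl hin)
  rcases q with _ | q
  · rcases lt_or_ge d m with hd | hd
    · exact CMRegLib.HT.left hS h1 (h0 (by omega) d hd)
    · exact CMRegLib.vanish_ge h₁ hK le_rfl (by push_cast; omega)
  · exact CMRegLib.HT.left hS h1 (hmid (q + 1) d (by omega) (by omega) (by omega))

end Groth.Agent.SBK0Lib
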