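import Groth.Agent.SBK0Lib.HomStep
import Groth.Agent.SBK0Lib.ProjStep
import Groth.Agent.HorrocksPnLib.SBMain
import Groth.Agent.DCohLib.PullPerf
import Groth.Agent.ASBunKS.SecBase
import Groth.Agent.DCohLib.Pullback

/-!
# One step of a minimal resolution on a Severi–Brauer scheme
-/

set_option autoImplicit false
set_option backward.isDefEq.respectTransparency false
set_option linter.style.haveILetI false
set_option maxHeartbeats 400000
set_option linter.unusedSectionVars false

universe u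

open CategoryTheory CategoryTheory.Limits AlgebraicGeometry
open Groth.Agent.ASBunKS Groth.Agent.HorrocksPnLib
open W4c1astiltbs12

noncomputable section

namespace Groth.Agent.SBK0Lib

variable {k : Type u} [Field k] {X : Scheme.{u}} {f : X ⟶ Spec (CommRingCat.of k)} [IsProper f]
  {K : Type u} [Field K] [Algebra k K] [IsAlgClosure k K] {N : ℕ} (e : BrSev.Splitting f K N)

/-- Inverse image to projective space over the splitting field. -/
abbrev G : X.Modules ⥤ (CohB1.ProjSpace N K).Modules := Scheme.Modules.pullback (gmap e)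

theorem shortExact_G {S : ShortComplex X.Modules} (hS : S.ShortExact) (h₃ : FlatMod.IsFinLocFree S.X₃) :
    (S.map (G e)).ShortExact :=
  DCohLib.shortExact_pullback_of_isFlat (gmap e) S hS (DCohLib.isFlat_of_flf h₃)

theorem isCoh_G {M : X.Modules} (hM : FlatMod.IsFinLocFree M) : Coh.IsCoh ((G e).obj M) :=
  haveI := CMRegLib.isNoetherian_projSpace (k := K) (n := N)
  CurveLib.isCoh_of_isFinLocFree (PullbackMod.isFinLocFree_pullback (gmap e) M hM)

/-- Maps of base changes and maps on projective space. -/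
theorem exists_transport {W M : X.Modules} (u : (G e).obj W ⟶ (G e).obj M) :
    ∃ v : bcMod f K W ⟶ bcMod f K M,
      u = ((Scheme.Modules.pullbackComp e.iso.inv (BrSev.proj f K)).app W).inv ≫
        (Scheme.Modules.pullback e.iso.inv).map v ≫
        ((Scheme.Modules.pullbackComp e.iso.inv (BrSev.proj f K)).app M).hom := by
  let c := Scheme.Modules.pullbackComp e.iso.inv (BrSev.proj f K)
  haveI : (Scheme.Modules.pullback e.iso.inv).IsEquivalence := (pullEquiv e.iso.symm).isEquivalence_functor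
  refine ⟨(Scheme.Modules.pullback e.iso.inv).preimage ((c.app W).hom ≫ u ≫ (c.app M).inv), ?_⟩
  rw [Functor.map_preimage]
  simp [c]

/-- The properties of a minimal step. -/
structure Step (E : X.Modules) (m : ℕ) where
  W : X.Modules
  r : ℕ
  b : ℕ
  φ : (∐ fun _ : Fin b => W) ⟶ E
  flfW : FlatMod.IsFinLocFree W
  indec : ¬ IsZero W ∧ ∀ M₁ M₂ : X.Modules, Nonempty (W ≅ M₁ ⊞ M₂) → IsZero M₁ ∨ IsZero M₂
  pos : 0 < r
  typ : BrSev.IsTwPow e (-(m : ℤ)) r W
  bij : Function.Bijective fun v : W ⟶ ∐ fun _ : Fin b => W => v ≫ φ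

theorem nonempty_step {E : X.Modules} (hE : FlatMod.IsFinLocFree E) (m : ℕ) : Nonempty (Step e E m) := by
  haveI : IsAlgClosed K := IsAlgClosure.isAlgClosed k
  haveI : IsLocallyNoetherian X := LocallyOfFiniteType.isLocallyNoetherian f
  haveI := geometricallyIntegral_of_splitting f K e
  obtain ⟨W, r, hW, hWi, hr, hWt⟩ := S14200.result k f N K e (-(m : ℤ))
  obtain ⟨φ₀⟩ := id hWt
  obtain ⟨b, φ, hb⟩ := exists_minimal f (DCohLib.isCoh_of_isFinLocFree hW) (DCohLib.isCoh_of_isFinLocFree hE)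
    fun a ha => isIso_of_isotypical f K (DCohLib.isCoh_of_isFinLocFree hW) hWi (isInvertible_twistK f e _) φ₀ ha
  exact ⟨⟨W, r, b, φ, hW, hWi, hr, hWt, hb⟩⟩

variable {e} {E : X.Modules} {m : ℕ}

theorem Step.flfP (T : Step e E m) : FlatMod.IsFinLocFree (∐ fun _ : Fin T.b => T.W) :=
  DCohLib.isFinLocFree_sigma T.b _ fun _ => T.flfW

theorem Step.isRetract (T : Step e E m) :
    ∃ (i : Twist.twistProjSpace N K (-(m : ℤ)) ⟶ (G e).obj T.W)
      (p : (G e).obj T.W ⟶ Twist.twistProjSpace N K (-(m : ℤ))), i ≫ p = 𝟙 _ := by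
  obtain ⟨φ⟩ := nonempty_gPull_type e T.typ
  let i := Sigma.ι (fun _ : Fin T.r => Twist.twistProjSpace N K (-(m : ℤ))) ⟨0, T.pos⟩
  refine ⟨i ≫ φ.inv, φ.hom ≫ prj _ ⟨0, T.pos⟩, ?_⟩
  simp [i, prj]

theorem Step.lift (T : Step e E m) (hE : FlatMod.IsFinLocFree E)
    (t : Twist.twistProjSpace N K (-(m : ℤ)) ⟶ (G e).obj E) :
    ∃ t' : Twist.twistProjSpace N K (-(m : ℤ)) ⟶ (G e).obj (∐ fun _ : Fin T.b => T.W), t' ≫ (G e).map T.φ = t := by
  haveI : IsLocallyNoetherian X := LocallyOfFiniteType.isLocallyNoetherian f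
  obtain ⟨i, p, hip⟩ := T.isRetract
  obtain ⟨v, hv⟩ := exists_transport e (p ≫ t)
  obtain ⟨w, rfl⟩ := exists_bc_factor f K (DCohLib.isCoh_of_isFinLocFree T.flfW) (DCohLib.isCoh_of_isFinLocFree T.flfP)
    (DCohLib.isCoh_of_isFinLocFree hE) T.φ T.bij v
  refine ⟨i ≫ ((Scheme.Modules.pullbackComp e.iso.inv (BrSev.proj f K)).app _).inv ≫
    (Scheme.Modules.pullback e.iso.inv).map w ≫
      ((Scheme.Modules.pullbackComp e.iso.inv (BrSev.proj f K)).app _).hom, ?_⟩
  have hnat := (Scheme.Modules.pullbackComp e.iso.inv (BrSev.proj f K)).hom.naturality T.φ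
  refine Eq.trans ?_ (show i ≫ (p ≫ t) = t by rw [← Category.assoc, hip, Category.id_comp])
  rw [hv, Functor.map_comp]
  simp only [Category.assoc, Iso.app_hom]
  rw [← hnat]
  rfl

theorem Step.no_maps (T : Step e E m) (hE : FlatMod.IsFinLocFree E)
    (t : Twist.twistProjSpace N K (-(m : ℤ)) ⟶ (G e).obj (kernel T.φ)) : t = 0 := by
  haveI : IsLocallyNoetherian X := LocallyOfFiniteType.isLocallyNoetherian f
  haveI : (Scheme.Modules.pullback e.iso.inv).Additive := Functor.additive_of_preserves_binary_products _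
  obtain ⟨i, p, hip⟩ := T.isRetract
  obtain ⟨v, hv⟩ := exists_transport e (p ≫ t)
  have h0 : ∀ u : T.W ⟶ kernel T.φ, u = 0 := fun u => by
    rw [← cancel_mono (kernel.ι T.φ), zero_comp]
    exact T.bij.1 (by simp)
  rw [bcHom_eq_zero f K (DCohLib.isCoh_of_isFinLocFree T.flfW) (QCohLib.isCoh_kernel_cokernel T.φ
    (DCohLib.isCoh_of_isFinLocFree T.flfP) (DCohLib.isCoh_of_isFinLocFree hE)).1 h0 v, Functor.map_zero,
    zero_comp, comp_zero] at hv
  rw [← Category.id_comp t, ← hip, Category.assoc, hv, comp_zero]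

theorem Step.epi (T : Step e E m) (hE : FlatMod.IsFinLocFree E)
    (hreg : Curv2.IsMRegular K N ((G e).obj E) m) : Epi T.φ := by
  haveI : IsLocallyNoetherian X := LocallyOfFiniteType.isLocallyNoetherian f
  haveI := CMRegLib.isNoetherian_projSpace (k := K) (n := N)
  obtain ⟨b, q, hq, -⟩ := CMRegLib.exists_resolution (isCoh_G e hE) (m : ℤ) hreg
  choose t ht using fun j : Fin b => T.lift hE (Sigma.ι (fun _ : Fin b => Twist.twistProjSpace N K (-(m : ℤ))) j ≫ q)
  have hfac : Sigma.desc t ≫ (G e).map T.φ = q := Sigma.hom_ext _ _ fun j => by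
    rw [← Category.assoc, Sigma.ι_desc, ht]
  haveI := hq
  haveI hG : Epi ((G e).map T.φ) := epi_of_epi_fac hfac
  haveI : (Scheme.Modules.pullback e.iso.inv).IsEquivalence := (pullEquiv e.iso.symm).isEquivalence_functor
  haveI : Epi ((Scheme.Modules.pullback (BrSev.proj f K)).map T.φ) := by
    apply (Scheme.Modules.pullback e.iso.inv).epi_of_epi_map
    have h : Epi ((Scheme.Modules.pullback (BrSev.proj f K) ⋙ Scheme.Modules.pullback e.iso.inv).map T.φ) := by
      rw [← NatIso.naturality_2 (Scheme.Modules.pullbackComp e.iso.inv (BrSev.proj f K)) T.φ]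
      infer_instance
    exact h
  haveI : (Scheme.Modules.pullback (BrSev.proj f K)).Additive := Functor.additive_of_preserves_binary_products _
  haveI : Coh.IsQCoh (cokernel T.φ) := (QCohLib.isCoh_kernel_cokernel T.φ
    (DCohLib.isCoh_of_isFinLocFree T.flfP) (DCohLib.isCoh_of_isFinLocFree hE)).2.1
  refine Preadditive.epi_of_cokernel_zero (bc_faithful f K (cokernel.π T.φ) ?_)
  rw [← cancel_epi ((Scheme.Modules.pullback (BrSev.proj f K)).map T.φ), ← Functor.map_comp, cokernel.condition,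
    Functor.map_zero, comp_zero]

theorem Step.linAt (T : Step e E m) (hN : 0 < N) : LinAt ((G e).obj (∐ fun _ : Fin T.b => T.W)) (m : ℤ) := by
  obtain ⟨φ⟩ := nonempty_gPull_type e T.typ
  exact linAt_iso ((PreservesCoproduct.iso (G e) fun _ : Fin T.b => T.W) ≪≫ Sigma.mapIso fun _ => φ).symm
    (linAt_sigma _ fun _ => linAt_sigma _ fun _ => linAt_twist hN _)

end Groth.Agent.SBK0Lib
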